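import Groth.Agent.GrLib8.PicH1.Core
import Groth.Agent.H23.CocycleMod
import Groth.Agent.AmpleX.Extend
import Groth.Agent.InvX.GenLocusPull
import Groth.Agent.Lib.FramesTrans
import Mathlib.AlgebraicGeometry.Morphisms.ClosedImmersion
import Mathlib.AlgebraicGeometry.Morphisms.Affine

/-!
Roots of invertible modules lift along square-zero thickenings when the exponent is invertible.
-/

set_option autoImplicit false
set_option linter.unusedSectionVars false
set_option linter.style.haveILetI false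
set_option backward.isDefEq.respectTransparency false
set_option backward.isDefEq.respectTransparency.types false
set_option maxHeartbeats 800000

universe u

open CategoryTheory CategoryTheory.Limits AlgebraicGeometry TopologicalSpace Opposite

noncomputable section

namespace Groth.Agent.RootLift

open Groth.Agent.AModX Groth.Agent.InvX
open Groth.Agent.GrLib8.PicH1 (rU rU_rU coe_rU iso_of_transitions)

variable {X X' : Scheme.{u}} (i : X' ⟶ X)

/-- The image of a unit. -/
abbrev p (W : X.Opens) : Γ(X, W)ˣ →* Γ(X', i ⁻¹ᵁ W)ˣ := Units.map (i.app W).hom.toMonoidHom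

theorem p_rU {W V : X.Opens} (h : W ≤ V) (a : Γ(X, V)ˣ) : p i W (rU h a) = rU (i.preimage_mono h) (p i V a) :=
  Units.ext (ConcreteCategory.congr_hom (i.naturality (homOfLE h).op) (a : Γ(X, V)))

/-- The kernel on sections over affine opens has square zero. -/
def SqZero : Prop :=
  ∀ W : X.Opens, IsAffineOpen W → ∀ a b : Γ(X, W), i.app W a = 0 → i.app W b = 0 → a * b = 0

variable {i} (hsq : SqZero i)

include hsq

theorem surjective [IsClosedImmersion i] : Function.Surjective i := by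
  intro x
  by_contra hx
  obtain ⟨W, hW, hxW, hle⟩ := exists_isAffineOpen_mem_and_subset (x := x)
    (U := (⟨(Set.range i)ᶜ, i.isClosedEmbedding.isClosed_range.isOpen_compl⟩ : X.Opens))
    (fun h => hx h)
  have he : i ⁻¹ᵁ W = ⊥ := eq_bot_iff.2 fun z hz => absurd ⟨z, rfl⟩ (hle hz)
  haveI : Subsingleton Γ(X', i ⁻¹ᵁ W) :=
    CommRingCat.subsingleton_of_isTerminal (he ▸ X'.sheaf.isTerminalOfEmpty)
  have h1 := hsq W hW 1 1 (Subsingleton.elim _ _) (Subsingleton.elim _ _)
  rw [one_mul] at h1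
  have hb : X.basicOpen (0 : Γ(X, W)) = W := by rw [← h1]; exact Scheme.basicOpen_of_isUnit X isUnit_one
  rw [Scheme.basicOpen_zero] at hb
  exact (show x ∉ (⊥ : X.Opens) from fun h => h) (hb ▸ hxW)

theorem exists_lift [IsClosedImmersion i] {W : X.Opens} (hW : IsAffineOpen W) (u : Γ(X', i ⁻¹ᵁ W)ˣ) :
    ∃ a : Γ(X, W)ˣ, p i W a = u := by
  obtain ⟨a, ha⟩ := i.app_surjective W hW (u : Γ(X', i ⁻¹ᵁ W))
  obtain ⟨b, hb⟩ := i.app_surjective W hW (u⁻¹ : Γ(X', i ⁻¹ᵁ W)ˣ).1
  have hz : i.app W (a * b - 1) = 0 := by rw [map_sub, map_mul, map_one, ha, hb, Units.mul_inv, sub_self]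
  have h2 : (a * b) * (1 - (a * b - 1)) = 1 := by
    have h3 := hsq W hW _ _ hz hz
    linear_combination -h3
  exact ⟨⟨a, b * (1 - (a * b - 1)), by rw [← mul_assoc]; exact h2, by rw [mul_comm, ← mul_assoc]; exact h2⟩,
    Units.ext ha⟩

omit hsq in
theorem one_add_pow {R : Type*} [CommRing R] {w : R} (h : w * w = 0) (n : ℕ) : (1 + w) ^ n = 1 + n * w := by
  induction n with
  | zero => simp
  | succ n ih =>
    rw [pow_succ, ih, Nat.cast_succ]
    linear_combination (n : R) * h

theorem exists_root {W : X.Opens} (hW : IsAffineOpen W) {n : ℕ} (hn : IsUnit (n : Γ(X, W))) (r : Γ(X, W)ˣ)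
    (hr : p i W r = 1) : ∃ s : Γ(X, W)ˣ, s ^ n = r ∧ p i W s = 1 := by
  obtain ⟨c, hc⟩ := hn.exists_left_inv
  let w : Γ(X, W) := c * ((r : Γ(X, W)) - 1)
  have hz : i.app W w = 0 := by
    have hr' : i.app W (r : Γ(X, W)) = 1 := congrArg Units.val hr
    rw [map_mul, map_sub, map_one, hr', sub_self, mul_zero]
  have hww : w * w = 0 := hsq W hW w w hz hz
  refine ⟨⟨1 + w, 1 - w, by linear_combination -hww, by linear_combination -hww⟩, Units.ext ?_, Units.ext ?_⟩
  · show (1 + w) ^ n = r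
    rw [one_add_pow hww]
    linear_combination ((r : Γ(X, W)) - 1) * hc
  · show i.app W (1 + w) = 1
    rw [map_add, map_one, hz, add_zero]

theorem eq_one_of_pow {W : X.Opens} (hW : IsAffineOpen W) {n : ℕ} (hn : IsUnit (n : Γ(X, W))) (r : Γ(X, W)ˣ)
    (hr : p i W r = 1) (hrn : r ^ n = 1) : r = 1 := by
  let w : Γ(X, W) := (r : Γ(X, W)) - 1
  have hz : i.app W w = 0 := by
    have hr' : i.app W (r : Γ(X, W)) = 1 := congrArg Units.val hr
    rw [map_sub, map_one, hr', sub_self]
  have h1 : (1 + w) ^ n = 1 := by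
    rw [show 1 + w = (r : Γ(X, W)) from add_sub_cancel _ _, ← Units.val_pow_eq_pow_val, hrn, Units.val_one]
  rw [one_add_pow (hsq W hW w w hz hz)] at h1
  have h2 : w = 0 := hn.mul_right_eq_zero.1 (by linear_combination h1)
  exact Units.ext (sub_eq_zero.1 h2)

omit hsq in
theorem pow_quot {G : Type*} [CommGroup G] {A B C ua ub uc lab lac lbc : G} {n : ℕ}
    (hab : C ^ n * ub = ua * lab) (hac : A ^ n * uc = ua * lac) (hbc : B ^ n * uc = ub * lbc)
    (hl : lac = lbc * lab) : (A / (B * C)) ^ n = 1 := by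
  rw [div_pow, mul_pow, div_eq_one, eq_div_of_mul_eq' hab, eq_div_of_mul_eq' hac, eq_div_of_mul_eq' hbc, hl,
    div_mul_div_comm, div_eq_div_iff_mul_eq_mul]
  ac_rfl

/-- **Lifting of roots.** -/
theorem exists_root_lift [IsClosedImmersion i] [IsAffineHom (pullback.diagonal (terminal.from X))] {n : ℕ}
    (hn : IsUnit (n : Γ(X, ⊤))) {L : X.Modules} (hL : PicF.IsInvertible L) {L' : X'.Modules}
    (hL' : PicF.IsInvertible L') (φ : CohB1.tensorPow L' n ≅ (Scheme.Modules.pullback i).obj L) :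
    ∃ M : X.Modules, PicF.IsInvertible M ∧ Nonempty (CohB1.tensorPow M n ≅ L) := by
  obtain ⟨FL⟩ := FramesTrans.nonempty_frames hL
  obtain ⟨FL'⟩ := FramesTrans.nonempty_frames hL'
  have hV0 : ∀ y : X', ∃ V : X.Opens, IsAffineOpen V ∧ i y ∈ V ∧ V ≤ FL.U (i y) ∧ i ⁻¹ᵁ V ≤ FL'.U y := by
    intro y
    obtain ⟨O, hO, hOeq⟩ := i.isClosedEmbedding.isInducing.isOpen_iff.1 (FL'.U y).2
    have hy : y ∈ i ⁻¹' O := by rw [hOeq]; exact FL'.mem y
    obtain ⟨V, hV, hyV, hle⟩ := exists_isAffineOpen_mem_and_subset (x := i y)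
      (U := FL.U (i y) ⊓ ⟨O, hO⟩) ⟨FL.mem _, hy⟩
    exact ⟨V, hV, hyV, fun z hz => (hle hz).1, fun z hz => hOeq.le (show z ∈ i ⁻¹' O from (hle hz).2)⟩
  choose V hV hyV hVL hVL' using hV0
  have hcov : ∀ x, ∃ a, x ∈ V a := fun x => by
    obtain ⟨y, rfl⟩ := surjective hsq x
    exact ⟨y, hyV y⟩
  let l : ∀ a, Γ(L, V a) := fun a => res L (hVL a) (FL.e (i a))
  have hl : ∀ a, IsFrame (l a) := fun a => (FL.he (i a)).res _
  let e' : ∀ a, Γ(L', i ⁻¹ᵁ V a) := fun a => res L' (hVL' a) (FL'.e a)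
  have he' : ∀ a, IsFrame (e' a) := fun a => (FL'.he a).res _
  let W2 : X' → X' → X.Opens := fun a b => V a ⊓ V b
  have hW2 : ∀ a b, IsAffineOpen (W2 a b) := fun a b => (hV a).inf (hV b)
  have h2l : ∀ a b, W2 a b ≤ V a := fun a b => inf_le_left
  have h2r : ∀ a b, W2 a b ≤ V b := fun a b => inf_le_right
  choose lt hlt using fun a b => GrLib8.PicH1.exists_unit ((hl b).res (h2r a b)) ((hl a).res (h2l a b))
  choose g' hg' using fun a b => GrLib8.PicH1.exists_unit ((he' b).res (i.preimage_mono (h2r a b)))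
    ((he' a).res (i.preimage_mono (h2l a b)))
  let PL := (Scheme.Modules.pullback i).obj L
  have hpl : ∀ a, IsFrame (U := i ⁻¹ᵁ V a) (pullElt i (l a)) := fun a => isFrame_pullElt i (hl a)
  choose u' hu' using fun a => GrLib8.PicH1.exists_unit (hpl a)
    ((AmpleX.isFrame_powElt (he' a) n).map_iso φ)
  choose u hu using fun a => exists_lift hsq (hV a) (u' a)
  choose g hg using fun a b => exists_lift hsq (hW2 a b) (g' a b)
  -- the compatibility upstairs
  have hrel : ∀ a b, rU (i.preimage_mono (h2l a b)) (u' a) * p i (W2 a b) (lt a b) =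
      g' a b ^ n * rU (i.preimage_mono (h2r a b)) (u' b) := fun a b => by
    refine Units.ext ((hpl b).coord_unique (i.preimage_mono (h2r a b)) ?_)
    have h1 : res PL (i.preimage_mono (h2l a b)) (φ.hom.app _ (AmpleX.powElt (e' a) n)) =
        ((g' a b ^ n : Γ(X', i ⁻¹ᵁ W2 a b)ˣ) : Γ(X', i ⁻¹ᵁ W2 a b)) •
          res PL (i.preimage_mono (h2r a b)) (φ.hom.app _ (AmpleX.powElt (e' b) n)) := by
      rw [← app_res, ← app_res, AmpleX.res_powElt, AmpleX.res_powElt, hg' a b, AmpleX.powElt_smul,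
        Units.val_pow_eq_pow_val]
      exact Scheme.Modules.Hom.app_smul _ _ _
    rw [hu' a, hu' b, res_smul, res_smul, smul_smul, res_pullElt i (h2l a b), res_pullElt i (h2r a b), hlt a b, InvX.pullElt_smul,
      smul_smul] at h1
    rw [res_pullElt i (h2r a b), Units.val_mul, Units.val_mul]
    exact h1
  -- the corrected transitions
  have hn' : ∀ W : X.Opens, IsUnit (n : Γ(X, W)) := fun W => by
    simpa using hn.map (resR (show W ≤ ⊤ from le_top))
  let num : ∀ a b, Γ(X, W2 a b)ˣ := fun a b => g a b ^ n * rU (h2r a b) (u b)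
  let den : ∀ a b, Γ(X, W2 a b)ˣ := fun a b => rU (h2l a b) (u a) * lt a b
  have hr : ∀ a b, p i (W2 a b) (num a b / den a b) = 1 := fun a b => by
    rw [map_div, div_eq_one, map_mul, map_mul, map_pow, hg, p_rU, p_rU, hu, hu]
    exact (hrel a b).symm
  choose s hs hps using fun a b => exists_root hsq (hW2 a b) (hn' _) (num a b / den a b) (hr a b)
  let G : ∀ a b, Γ(X, W2 a b)ˣ := fun a b => g a b / s a b
  have hG : ∀ a b, G a b ^ n * rU (h2r a b) (u b) = rU (h2l a b) (u a) * lt a b := fun a b => by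
    rw [div_pow, hs, div_div_eq_mul_div, div_mul_eq_mul_div, div_eq_iff_eq_mul]
    simp only [num, den]
    ac_rfl
  have hpG : ∀ a b, p i (W2 a b) (G a b) = g' a b := fun a b => by rw [map_div, hg, hps, div_one]
  -- the cocycle condition
  have hco : ∀ (a b c : X') (T : X.Opens) (ha : T ≤ V a) (hb : T ≤ V b) (hc : T ≤ V c), IsAffineOpen T →
      rU (le_inf ha hc) (G a c) = rU (le_inf hb hc) (G b c) * rU (le_inf ha hb) (G a b) := by
    intro a b c T ha hb hc hT
    refine div_eq_one.1 (eq_one_of_pow hsq hT (hn' T) _ ?_ ?_)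
    · rw [map_div, map_mul, div_eq_one, p_rU, p_rU, p_rU, hpG, hpG, hpG]
      refine Units.ext ((he' c).coord_unique (i.preimage_mono hc) ?_)
      have h : ∀ (a b : X') (ha : T ≤ V a) (hb : T ≤ V b), res L' (i.preimage_mono ha) (e' a) =
          resR (i.preimage_mono (le_inf ha hb)) (g' a b : Γ(X', i ⁻¹ᵁ W2 a b)) •
            res L' (i.preimage_mono hb) (e' b) := fun a b ha hb => by
        have := congrArg (res L' (i.preimage_mono (le_inf ha hb : T ≤ W2 a b))) (hg' a b)
        rw [res_smul] at this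
        exact ((res_res _ _ _).symm.trans this).trans (congrArg (_ • ·) (res_res _ _ _))
      rw [coe_rU, ← h a c ha hc, Units.val_mul, coe_rU, coe_rU, h a b ha hb, h b c hb hc, smul_smul, mul_comm]
    · have e : ∀ (a b : X') (ha : T ≤ V a) (hb : T ≤ V b),
          rU (le_inf ha hb) (G a b) ^ n * rU hb (u b) = rU ha (u a) * rU (le_inf ha hb) (lt a b) :=
        fun a b ha hb => by
          have := congrArg (rU (le_inf ha hb : T ≤ W2 a b)) (hG a b)
          rwa [map_mul, map_mul, map_pow, rU_rU, rU_rU] at this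
      refine pow_quot (e a b ha hb) (e a c ha hc) (e b c hb hc) ?_
      refine Units.ext ((hl c).coord_unique hc ?_)
      have h : ∀ (a b : X') (ha : T ≤ V a) (hb : T ≤ V b), res L ha (l a) =
          resR (le_inf ha hb) (lt a b : Γ(X, W2 a b)) • res L hb (l b) := fun a b ha hb => by
        have := congrArg (res L (le_inf ha hb : T ≤ W2 a b)) (hlt a b)
        rw [res_smul] at this
        exact ((res_res _ _ _).symm.trans this).trans (congrArg (_ • ·) (res_res _ _ _))
      rw [coe_rU, ← h a c ha hc, Units.val_mul, coe_rU, coe_rU, h a b ha hb, h b c hb hc, smul_smul, mul_comm]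
  let co : H23.CocycleMod.Cocycle V := ⟨G, fun a b c W ha hb hc => by
    have h := congrArg (rU (le_inf (le_inf ha hb) hc : W ≤ V a ⊓ V b ⊓ V c))
      (hco a b c (V a ⊓ V b ⊓ V c) (inf_le_left.trans inf_le_left) (inf_le_left.trans inf_le_right) inf_le_right
        (((hV a).inf (hV b)).inf (hV c)))
    rw [map_mul, rU_rU, rU_rU, rU_rU] at h
    exact congrArg Units.val h⟩
  let M := H23.CocycleMod.mod co
  refine ⟨M, H23.CocycleMod.isInvertible co (top_le_iff.1 fun x _ => Opens.mem_iSup.2 (hcov x)), ?_⟩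
  refine iso_of_transitions V hcov (fun a => AmpleX.powElt (H23.CocycleMod.frame co a) n)
    (fun a => (u a : Γ(X, V a)) • l a) (fun a => AmpleX.isFrame_powElt (H23.CocycleMod.isFrame_frame co a) n)
    (fun a => (hl a).isUnit_smul (u a).isUnit) fun a b W ha hb k hk => ?_
  let Gn : Γ(X, W) := resR (le_inf ha hb) (G a b : Γ(X, W2 a b)) ^ n
  have hM : res (CohB1.tensorPow M n) ha (AmpleX.powElt (H23.CocycleMod.frame co a) n) =
      Gn • res (CohB1.tensorPow M n) hb (AmpleX.powElt (H23.CocycleMod.frame co b) n) := by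
    have h := congrArg (res M (le_inf ha hb)) (H23.CocycleMod.res_frame co a b)
    rw [res_smul, res_res, res_res] at h
    rw [AmpleX.res_powElt, AmpleX.res_powElt, h, AmpleX.powElt_smul]
  have hk1 : k * Gn = 1 := (AmpleX.isFrame_powElt (H23.CocycleMod.isFrame_frame co b) n).coord_unique hb (by
    rw [one_smul, mul_smul, ← hM]
    exact hk.symm)
  have hN : res L ha ((u a : Γ(X, V a)) • l a) = Gn • res L hb ((u b : Γ(X, V b)) • l b) := by
    have h0 := congrArg (res L (le_inf ha hb : W ≤ W2 a b)) (hlt a b)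
    rw [res_smul] at h0
    have h : res L ha (l a) = resR (le_inf ha hb) (lt a b : Γ(X, W2 a b)) • res L hb (l b) :=
      ((res_res _ _ _).symm.trans h0).trans (congrArg (_ • ·) (res_res _ _ _))
    rw [res_smul, res_smul, h, smul_smul, smul_smul]
    congr 1
    have h2 := congrArg (rU (le_inf ha hb : W ≤ W2 a b)) (hG a b)
    rw [map_mul, map_mul, map_pow, rU_rU, rU_rU] at h2
    exact (congrArg Units.val h2).symm
  rw [hN, smul_smul, hk1, one_smul]

end Groth.Agent.RootLift
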