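import Groth.Agent.RootLift.Main
import Mathlib.AlgebraicGeometry.Morphisms.Separated

/-!
Square-zero thickenings obtained by base change along a quotient of the base ring.
-/

set_option autoImplicit false
set_option linter.unusedSectionVars false
set_option linter.style.haveILetI false
set_option backward.isDefEq.respectTransparency false
set_option backward.isDefEq.respectTransparency.types false

universe u

open CategoryTheory CategoryTheory.Limits AlgebraicGeometry Opposite

noncomputable section

namespace Groth.Agent.RootLift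

variable {A : Type u} [CommRing A] (J : Ideal A) (hJ : J * J = ⊥) {X : Scheme.{u}}
  (f : X ⟶ Spec (CommRingCat.of A))

include hJ

theorem sqZero_fst : SqZero (pullback.fst f (Spec.map (CommRingCat.ofHom (Ideal.Quotient.mk J)))) := by
  intro W hW a b ha hb
  let φ : CommRingCat.of A ⟶ Γ(X, W) := (Scheme.ΓSpecIso (CommRingCat.of A)).inv ≫ f.appLE ⊤ W le_top
  let K : Ideal Γ(X, W) := J.map φ.hom
  let mkK : Γ(X, W) ⟶ CommRingCat.of (Γ(X, W) ⧸ K) := CommRingCat.ofHom (Ideal.Quotient.mk K)
  let ψ : CommRingCat.of (A ⧸ J) ⟶ CommRingCat.of (Γ(X, W) ⧸ K) :=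
    CommRingCat.ofHom (Ideal.quotientMap K φ.hom Ideal.le_comap_map)
  have hf : hW.fromSpec ≫ f = Spec.map φ := by
    rw [← (isAffineOpen_top (Spec (CommRingCat.of A))).SpecMap_appLE_fromSpec f hW (le_top : W ≤ f ⁻¹ᵁ ⊤),
      IsAffineOpen.fromSpec_top, Scheme.isoSpec_Spec_inv, ← Spec.map_comp]
  have hq : (Spec.map mkK ≫ hW.fromSpec) ≫ f = Spec.map ψ ≫ Spec.map (CommRingCat.ofHom (Ideal.Quotient.mk J)) := by
    rw [Category.assoc, hf, ← Spec.map_comp, ← Spec.map_comp]
    rfl
  let r := pullback.lift (Spec.map mkK ≫ hW.fromSpec) (Spec.map ψ) hq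
  have hr : r ≫ pullback.fst f (Spec.map (CommRingCat.ofHom (Ideal.Quotient.mk J))) = Spec.map mkK ≫ hW.fromSpec :=
    pullback.lift_fst _ _ _
  have hker : ∀ c : Γ(X, W), (pullback.fst f (Spec.map (CommRingCat.ofHom (Ideal.Quotient.mk J)))).app W c = 0 →
      c ∈ K := by
    intro c hc
    have h1 : (Spec.map mkK ≫ hW.fromSpec).app W c = 0 := by
      have h := congrArg (fun z => r.app _ z) hc
      simp only [map_zero] at h
      rw [Scheme.Hom.congr_app hr.symm W, CommRingCat.comp_apply, Scheme.Hom.comp_app, CommRingCat.comp_apply]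
      exact (congrArg _ h).trans (map_zero _)
    rw [Scheme.Hom.comp_app, CommRingCat.comp_apply, hW.fromSpec_app_self, CommRingCat.comp_apply] at h1
    refine Ideal.Quotient.eq_zero_iff_mem.1 ?_
    have h2 : mkK c = 0 := by
      have hb := (ConcreteCategory.bijective_of_isIso ((Spec Γ(X, W)).presheaf.map (eqToHom hW.fromSpec_preimage_self).op))
      have h3 : (Spec.map mkK).app ⊤ ((Scheme.ΓSpecIso Γ(X, W)).inv c) = 0 := by
        have hnat := ConcreteCategory.congr_hom
          ((Spec.map mkK).naturality (eqToHom hW.fromSpec_preimage_self).op) ((Scheme.ΓSpecIso Γ(X, W)).inv c)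
        rw [CommRingCat.comp_apply, CommRingCat.comp_apply] at hnat
        exact (ConcreteCategory.bijective_of_isIso _).1 ((hnat.symm.trans h1).trans (map_zero _).symm)
      have h4 := congrArg (Scheme.ΓSpecIso (CommRingCat.of (Γ(X, W) ⧸ K))).hom h3
      rw [map_zero] at h4
      refine Eq.trans ?_ h4
      refine Eq.trans ?_ (ConcreteCategory.congr_hom (Scheme.ΓSpecIso_naturality mkK) _).symm
      exact congrArg mkK (Iso.inv_hom_id_apply (Scheme.ΓSpecIso Γ(X, W)) c).symm
    exact h2
  have h2 : a * b ∈ K * K := Ideal.mul_mem_mul (hker a ha) (hker b hb)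
  rw [show K * K = ⊥ by rw [← Ideal.map_mul, hJ, Ideal.map_bot]] at h2
  exact h2

end Groth.Agent.RootLift
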